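import Cfsg.Agent.Lib.Sporadic.MultTwoUnit.Data
import Cfsg.Agent.Lib.Sporadic.MultTwoMono.Data
import Cfsg.Agent.Lib.Sporadic.MultTwoCent.Data
import Cfsg.Agent.Lib.Sporadic.MultTwoMcl.Data
import Cfsg.Agent.Lib.Schur.LocalExact
import Cfsg.Agent.Lib.Schur.CheckParts

/-!
# Further equations
-/

set_option autoImplicit false
set_option maxRecDepth 100000
set_option maxHeartbeats 0
set_option Elab.async false

namespace CfsgLib.Sporadic.CoTwoMult

open CfsgLib.Schur.Cert CfsgLib.Sporadic


theorem mono_extra : MultTwoMono.extra.all (extraOK MultTwoMono.chain (chainRels MultTwoMono.chain MultTwoMono.top) 2) = true :=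
  all_of_allFrom (0, 0, []) ((by decide +kernel))


theorem cent_extra : MultTwoCent.extra.all (extraOK MultTwoCent.chain (chainRels MultTwoCent.chain MultTwoCent.top) 2) = true :=
  all_of_allFrom (0, 0, []) ((by decide +kernel))


theorem mcl_extra : MultTwoMcl.extra.all (extraOK MultTwoMcl.chain (chainRels MultTwoMcl.chain MultTwoMcl.top) 2) = true :=
  all_of_allFrom (0, 0, []) ((by decide +kernel))

theorem unit_extra_0 : allFrom (fun i => extraOK MultTwoUnit.chain (chainRels MultTwoUnit.chain MultTwoUnit.top) 2 (MultTwoUnit.extra.getD i (0, 0, []))) 0 1 = true := by decide +kernel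

theorem unit_extra_1 : allFrom (fun i => extraOK MultTwoUnit.chain (chainRels MultTwoUnit.chain MultTwoUnit.top) 2 (MultTwoUnit.extra.getD i (0, 0, []))) 1 2 = true := by decide +kernel

theorem unit_extra_2 : allFrom (fun i => extraOK MultTwoUnit.chain (chainRels MultTwoUnit.chain MultTwoUnit.top) 2 (MultTwoUnit.extra.getD i (0, 0, []))) 2 3 = true := by decide +kernel

theorem unit_extra : MultTwoUnit.extra.all (extraOK MultTwoUnit.chain (chainRels MultTwoUnit.chain MultTwoUnit.top) 2) = true :=
  all_of_allFrom (0, 0, []) (allFrom_trans unit_extra_0 (allFrom_trans unit_extra_1 (unit_extra_2)))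


end CfsgLib.Sporadic.CoTwoMult
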