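import Cfsg.Agent.Lib.Sporadic.ConwayKeysWide
import Cfsg.Agent.Lib.Sporadic.OrbitCoTwoNear
import Cfsg.Agent.Lib.Sporadic.MultTwoPoints.KeyTrie
import Cfsg.Agent.Lib.Sporadic.ConwayKeysPartsWide

/-!
# Generators of the second Conway group on 4600 vectors
-/

set_option autoImplicit false
set_option maxRecDepth 100000
set_option maxHeartbeats 0
set_option Elab.async false

namespace CfsgLib.Sporadic.CoTwoMult

open CfsgLib.Sporadic.Conway
open CfsgLib.Schur.Cert (allFrom allFrom_trans pgetW)

theorem gen_part3_0 : allFrom (wordPtW MultTwoPoints.keyTrie 4600 (coTwoNearGens.getD 3 []) (MultTwoPoints.perms.getD 3 0)) 0 1150 = true := by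
  decide +kernel

theorem gen_part3_1150 : allFrom (wordPtW MultTwoPoints.keyTrie 4600 (coTwoNearGens.getD 3 []) (MultTwoPoints.perms.getD 3 0)) 1150 2300 = true := by
  decide +kernel

theorem gen_part3_2300 : allFrom (wordPtW MultTwoPoints.keyTrie 4600 (coTwoNearGens.getD 3 []) (MultTwoPoints.perms.getD 3 0)) 2300 3450 = true := by
  decide +kernel

theorem gen_part3_3450 : allFrom (wordPtW MultTwoPoints.keyTrie 4600 (coTwoNearGens.getD 3 []) (MultTwoPoints.perms.getD 3 0)) 3450 4600 = true := by
  decide +kernel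

theorem gen_check3 : Numbered.wordOKW [kPair] MultTwoPoints.keys 4600 (coTwoNearGens.getD 3 [])
    (MultTwoPoints.perms.getD 3 0) = true :=
  wordOKW_of_parts MultTwoPoints.keyTrie_ok MultTwoPoints.keys_length (by decide +kernel) (allFrom_trans gen_part3_0 (allFrom_trans gen_part3_1150 (allFrom_trans gen_part3_2300 gen_part3_3450)))

theorem gen_part4_0 : allFrom (wordPtW MultTwoPoints.keyTrie 4600 (coTwoNearGens.getD 4 []) (MultTwoPoints.perms.getD 4 0)) 0 1150 = true := by
  decide +kernel

theorem gen_part4_1150 : allFrom (wordPtW MultTwoPoints.keyTrie 4600 (coTwoNearGens.getD 4 []) (MultTwoPoints.perms.getD 4 0)) 1150 2300 = true := by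
  decide +kernel

theorem gen_part4_2300 : allFrom (wordPtW MultTwoPoints.keyTrie 4600 (coTwoNearGens.getD 4 []) (MultTwoPoints.perms.getD 4 0)) 2300 3450 = true := by
  decide +kernel

theorem gen_part4_3450 : allFrom (wordPtW MultTwoPoints.keyTrie 4600 (coTwoNearGens.getD 4 []) (MultTwoPoints.perms.getD 4 0)) 3450 4600 = true := by
  decide +kernel

theorem gen_check4 : Numbered.wordOKW [kPair] MultTwoPoints.keys 4600 (coTwoNearGens.getD 4 [])
    (MultTwoPoints.perms.getD 4 0) = true :=
  wordOKW_of_parts MultTwoPoints.keyTrie_ok MultTwoPoints.keys_length (by decide +kernel) (allFrom_trans gen_part4_0 (allFrom_trans gen_part4_1150 (allFrom_trans gen_part4_2300 gen_part4_3450)))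

theorem gen_part5_0 : allFrom (wordPtW MultTwoPoints.keyTrie 4600 (coTwoNearGens.getD 5 []) (MultTwoPoints.perms.getD 5 0)) 0 1150 = true := by
  decide +kernel

theorem gen_part5_1150 : allFrom (wordPtW MultTwoPoints.keyTrie 4600 (coTwoNearGens.getD 5 []) (MultTwoPoints.perms.getD 5 0)) 1150 2300 = true := by
  decide +kernel

theorem gen_part5_2300 : allFrom (wordPtW MultTwoPoints.keyTrie 4600 (coTwoNearGens.getD 5 []) (MultTwoPoints.perms.getD 5 0)) 2300 3450 = true := by
  decide +kernel

theorem gen_part5_3450 : allFrom (wordPtW MultTwoPoints.keyTrie 4600 (coTwoNearGens.getD 5 []) (MultTwoPoints.perms.getD 5 0)) 3450 4600 = true := by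
  decide +kernel

theorem gen_check5 : Numbered.wordOKW [kPair] MultTwoPoints.keys 4600 (coTwoNearGens.getD 5 [])
    (MultTwoPoints.perms.getD 5 0) = true :=
  wordOKW_of_parts MultTwoPoints.keyTrie_ok MultTwoPoints.keys_length (by decide +kernel) (allFrom_trans gen_part5_0 (allFrom_trans gen_part5_1150 (allFrom_trans gen_part5_2300 gen_part5_3450)))

end CfsgLib.Sporadic.CoTwoMult
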