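import Cfsg.Agent.Lib.Sporadic.ConwayKeysWide
import Cfsg.Agent.Lib.Sporadic.OrbitCoTwoNear
import Cfsg.Agent.Lib.Sporadic.MultTwoPoints.KeyTrie
import Cfsg.Agent.Lib.Sporadic.ConwayKeysPartsWide

/-!
# Generators of the second Conway group on 4600 vectors
-/

set_option autoImplicit false
set_option maxRecDepth 100000
set_option maxHeartbeats 0
set_option Elab.async false

namespace CfsgLib.Sporadic.CoTwoMult

open CfsgLib.Sporadic.Conway
open CfsgLib.Schur.Cert (allFrom allFrom_trans pgetW)

theorem gen_part0_0 : allFrom (wordPtW MultTwoPoints.keyTrie 4600 (coTwoNearGens.getD 0 []) (MultTwoPoints.perms.getD 0 0)) 0 1150 = true := by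
  decide +kernel

theorem gen_part0_1150 : allFrom (wordPtW MultTwoPoints.keyTrie 4600 (coTwoNearGens.getD 0 []) (MultTwoPoints.perms.getD 0 0)) 1150 2300 = true := by
  decide +kernel

theorem gen_part0_2300 : allFrom (wordPtW MultTwoPoints.keyTrie 4600 (coTwoNearGens.getD 0 []) (MultTwoPoints.perms.getD 0 0)) 2300 3450 = true := by
  decide +kernel

theorem gen_part0_3450 : allFrom (wordPtW MultTwoPoints.keyTrie 4600 (coTwoNearGens.getD 0 []) (MultTwoPoints.perms.getD 0 0)) 3450 4600 = true := by
  decide +kernel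

theorem gen_check0 : Numbered.wordOKW [kPair] MultTwoPoints.keys 4600 (coTwoNearGens.getD 0 [])
    (MultTwoPoints.perms.getD 0 0) = true :=
  wordOKW_of_parts MultTwoPoints.keyTrie_ok MultTwoPoints.keys_length (by decide +kernel) (allFrom_trans gen_part0_0 (allFrom_trans gen_part0_1150 (allFrom_trans gen_part0_2300 gen_part0_3450)))

theorem gen_part1_0 : allFrom (wordPtW MultTwoPoints.keyTrie 4600 (coTwoNearGens.getD 1 []) (MultTwoPoints.perms.getD 1 0)) 0 1150 = true := by
  decide +kernel

theorem gen_part1_1150 : allFrom (wordPtW MultTwoPoints.keyTrie 4600 (coTwoNearGens.getD 1 []) (MultTwoPoints.perms.getD 1 0)) 1150 2300 = true := by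
  decide +kernel

theorem gen_part1_2300 : allFrom (wordPtW MultTwoPoints.keyTrie 4600 (coTwoNearGens.getD 1 []) (MultTwoPoints.perms.getD 1 0)) 2300 3450 = true := by
  decide +kernel

theorem gen_part1_3450 : allFrom (wordPtW MultTwoPoints.keyTrie 4600 (coTwoNearGens.getD 1 []) (MultTwoPoints.perms.getD 1 0)) 3450 4600 = true := by
  decide +kernel

theorem gen_check1 : Numbered.wordOKW [kPair] MultTwoPoints.keys 4600 (coTwoNearGens.getD 1 [])
    (MultTwoPoints.perms.getD 1 0) = true :=
  wordOKW_of_parts MultTwoPoints.keyTrie_ok MultTwoPoints.keys_length (by decide +kernel) (allFrom_trans gen_part1_0 (allFrom_trans gen_part1_1150 (allFrom_trans gen_part1_2300 gen_part1_3450)))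

theorem gen_part2_0 : allFrom (wordPtW MultTwoPoints.keyTrie 4600 (coTwoNearGens.getD 2 []) (MultTwoPoints.perms.getD 2 0)) 0 1150 = true := by
  decide +kernel

theorem gen_part2_1150 : allFrom (wordPtW MultTwoPoints.keyTrie 4600 (coTwoNearGens.getD 2 []) (MultTwoPoints.perms.getD 2 0)) 1150 2300 = true := by
  decide +kernel

theorem gen_part2_2300 : allFrom (wordPtW MultTwoPoints.keyTrie 4600 (coTwoNearGens.getD 2 []) (MultTwoPoints.perms.getD 2 0)) 2300 3450 = true := by
  decide +kernel

theorem gen_part2_3450 : allFrom (wordPtW MultTwoPoints.keyTrie 4600 (coTwoNearGens.getD 2 []) (MultTwoPoints.perms.getD 2 0)) 3450 4600 = true := by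
  decide +kernel

theorem gen_check2 : Numbered.wordOKW [kPair] MultTwoPoints.keys 4600 (coTwoNearGens.getD 2 [])
    (MultTwoPoints.perms.getD 2 0) = true :=
  wordOKW_of_parts MultTwoPoints.keyTrie_ok MultTwoPoints.keys_length (by decide +kernel) (allFrom_trans gen_part2_0 (allFrom_trans gen_part2_1150 (allFrom_trans gen_part2_2300 gen_part2_3450)))

end CfsgLib.Sporadic.CoTwoMult
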