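import Cfsg.Agent.Lib.Schur.CheckParts
import Cfsg.Agent.Lib.Sporadic.MultTwoPoints.Data
import Cfsg.Agent.Lib.Sporadic.MultTwoMono.Data
import Cfsg.Agent.Lib.Sporadic.MultTwoMono.Pack0
import Cfsg.Agent.Lib.Sporadic.MultTwoMono.Pack1
import Cfsg.Agent.Lib.Sporadic.MultTwoMono.Pack2
import Cfsg.Agent.Lib.Sporadic.MultTwoMono.Pack3
import Cfsg.Agent.Lib.Sporadic.MultTwoMono.Pack4
import Cfsg.Agent.Lib.Sporadic.MultTwoMono.Pack5

/-!
# Segments of the relation in the cover
-/

set_option autoImplicit false
set_option maxRecDepth 100000
set_option maxHeartbeats 0
set_option Elab.async false

noncomputable section

namespace CfsgLib.Sporadic.CoTwoMult

open CfsgLib.Schur.Cert CfsgLib.Sporadic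

theorem mono_seg0 : SegRun (chainMachineP MultTwoMono.chain [MultTwoMono.pack0, MultTwoMono.pack1, MultTwoMono.pack2, MultTwoMono.pack3, MultTwoMono.pack4, MultTwoMono.pack5])
    (wsub (fun j => MultTwoPoints.inMono.getD j []) [(0, true), (0, true), (0, true), (0, true)]) 0 6364653
    1405529371041258910351929430763418537831720734954966468245404695122656247043551799122554474421813468373806591516904342502885983687871571667531241233784049684186170480365502816390992782659321503427503045059647883682313689972941798663140985518760723989995669898500027813546106189241965802914910861871525565753689356222055450946547986664262006176977545170870559603889151519109034820238123406923387230610434434950083698760947376538243950430121441960685139955919925960107875139117469908456402508025238266917695239257897536894897215856464619819301542372340652330978203480906189740603081513163181958239822190138268140505244550848860725488431442928738083438933771176782029027489987693196513391352759851042751724562807688895144067112977201796874350239982630395676160491093000459053775658411579110529688719485353952839975039348968567686272228372867033864907261438720749975310908541546055896868779139608282291635013743831821697275292800691983738564527825472102631850180224484873800738795831840181332781105994178687853449788317650788960385022014649358092726854769859864462113676877947508326503122569359277908266336662311119765718449284424540839129909974947276863095107513677670743893290004466955087020064971289222860621610143041290314677033622694674992123736797324183963342342340932870642679012321186728277264212450563379799291913826999428252036753333799886247814303647160535243661078249999217069016021654581832144440414191581116107499608082973593851380606754167338422422135157180577163354755713947535616555374592063023514490033670012203136529082851112303368651499486999263012253564784467482381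 72057594037927936 :=
  segRun_of_segOK (by decide +kernel)

end CfsgLib.Sporadic.CoTwoMult
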