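import Cfsg.Agent.Lib.Schur.CheckParts
import Cfsg.Agent.Lib.Sporadic.MultTwoPoints.Data
import Cfsg.Agent.Lib.Sporadic.MultTwoMono.Data
import Cfsg.Agent.Lib.Sporadic.MultTwoMono.Pack0
import Cfsg.Agent.Lib.Sporadic.MultTwoMono.Pack1
import Cfsg.Agent.Lib.Sporadic.MultTwoMono.Pack2
import Cfsg.Agent.Lib.Sporadic.MultTwoMono.Pack3
import Cfsg.Agent.Lib.Sporadic.MultTwoMono.Pack4
import Cfsg.Agent.Lib.Sporadic.MultTwoMono.Pack5

/-!
# Segments of the relation in the cover
-/

set_option autoImplicit false
set_option maxRecDepth 100000
set_option maxHeartbeats 0
set_option Elab.async false

noncomputable section

namespace CfsgLib.Sporadic.CoTwoMult

open CfsgLib.Schur.Cert CfsgLib.Sporadic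

theorem mono_seg1 : SegRun (chainMachineP MultTwoMono.chain [MultTwoMono.pack0, MultTwoMono.pack1, MultTwoMono.pack2, MultTwoMono.pack3, MultTwoMono.pack4, MultTwoMono.pack5])
    (wsub (fun j => MultTwoPoints.inMono.getD j []) [(0, true), (0, true), (0, true), (0, true)]) 6364653 4977463
    1405529371041258910351929430763418537831720734954966468245404695122656247043551799122554474421813468373806591516904342502885983687871571667531241233784049684186170480365502816390992782659321503427503045059647883682313689972941798663140985518760723989995669898500027813546106189241965802914910861871525565753735201160606811018223083313166313933472672721514355615880690072133542098357853888545811213963415046439826893213131881665491385393374058437243628482010412361612781022038548266259078133061251365779817629255402109211560684718157203811328505496483519495835956035556718544714941644561351592578859260268620713100218387965450842099856949629159298330233792987955181620196004206061437900294288379959564198733024538349366474427733883357776513708597248193036367639106629461427676467410321258193465611096257800011214633038225898888059438461887949682914350772355603104440018595341897979733009232898848396640107696081629195183821494357110887694064211806434459391174665127683846055991138989537877961688318844244098108176045428549272041374823690632384735765186114494943033921321686391901372545175462920540549892047007190498315767330154836080310503508657129966538150356103841486252534677839397765828780265845639055060169168173382030264045773255392332488736832493845918464496814363866001702144106240315405436774772463022982277752229673282608550180552769946870142628959947225756511984101954355122658139236041342940053025717875742048788598019270824202204331830917261732190709550371836580941193227375148666338536158415136365255614641434106691244406683768229726469412223985449669517222263533496517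 72057594037927936 :=
  segRun_of_segOK (by decide +kernel)

end CfsgLib.Sporadic.CoTwoMult
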