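import Cfsg.Agent.Lib.Schur.CheckParts
import Cfsg.Agent.Lib.Sporadic.MultTwoPoints.Data
import Cfsg.Agent.Lib.Sporadic.MultTwoMono.Data
import Cfsg.Agent.Lib.Sporadic.MultTwoMono.Pack0
import Cfsg.Agent.Lib.Sporadic.MultTwoMono.Pack1
import Cfsg.Agent.Lib.Sporadic.MultTwoMono.Pack2
import Cfsg.Agent.Lib.Sporadic.MultTwoMono.Pack3
import Cfsg.Agent.Lib.Sporadic.MultTwoMono.Pack4
import Cfsg.Agent.Lib.Sporadic.MultTwoMono.Pack5

/-!
# Segments of the relation in the cover
-/

set_option autoImplicit false
set_option maxRecDepth 100000
set_option maxHeartbeats 0
set_option Elab.async false

noncomputable section

namespace CfsgLib.Sporadic.CoTwoMult

open CfsgLib.Schur.Cert CfsgLib.Sporadic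

theorem mono_seg2 : SegRun (chainMachineP MultTwoMono.chain [MultTwoMono.pack0, MultTwoMono.pack1, MultTwoMono.pack2, MultTwoMono.pack3, MultTwoMono.pack4, MultTwoMono.pack5])
    (wsub (fun j => MultTwoPoints.inMono.getD j []) [(0, true), (0, true), (1, true), (1, true)]) 4977463 825510265
    766652384204323042030608629557398260513091570909087322469907038072441864909227964138717171796648994896275331570438029167387921796977848221507508315870635073960627521335450680289129968497512018464622059256188286176806290844941497862953501181960082009066629235855139099065528010080672744271110126532904815937779810830300742154489690960307110143436388585624843106584118731826499284735200114940279074344965496150010129904218534538062722604439778739061117682325472480911521336009183503231763989169123076008155154772423564137903817343101773385800423295926353920423203405390932093736239443144129307275131578958367501934017948921703511581392141948180775911445778701179639933618570413902891175672134634128624941345494269097602532718660180148906672432830444771280009925848969187869679002397451565613895642360112841633594880751716854113726524287226953629268237413783533841861969187641119769233490430493468147573117361840743778606376902660168663986387517924931096845558208569769042262451437019904844004954237199746391554253031828774101534604320106819835931060456109680651758481346744782583096673324578877127413978226511577724666524048402075827327436188586243070370049323965131811983758191101019433900166832517958027312118401112737215978386820022343755185036917746535441219257986337781950356412189461459817914906437861853930478571403178264339873733702642564805516991040886044430554695973151292411673021821260527658594100550351156492899759681999582202429874521888877449271076982790998141557093327653209182351131699758104341560469859143023333964857088995862868184292778291310678554074416460123757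 72057594037927936 :=
  segRun_of_segOK (by decide +kernel)

end CfsgLib.Sporadic.CoTwoMult
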