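import Cfsg.Agent.Lib.Schur.CheckParts
import Cfsg.Agent.Lib.Sporadic.MultTwoPoints.Data
import Cfsg.Agent.Lib.Sporadic.MultTwoMono.Data
import Cfsg.Agent.Lib.Sporadic.MultTwoMono.Pack0
import Cfsg.Agent.Lib.Sporadic.MultTwoMono.Pack1
import Cfsg.Agent.Lib.Sporadic.MultTwoMono.Pack2
import Cfsg.Agent.Lib.Sporadic.MultTwoMono.Pack3
import Cfsg.Agent.Lib.Sporadic.MultTwoMono.Pack4
import Cfsg.Agent.Lib.Sporadic.MultTwoMono.Pack5

/-!
# Segments of the relation in the cover
-/

set_option autoImplicit false
set_option maxRecDepth 100000
set_option maxHeartbeats 0
set_option Elab.async false

noncomputable section

namespace CfsgLib.Sporadic.CoTwoMult

open CfsgLib.Schur.Cert CfsgLib.Sporadic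

theorem mono_seg3 : SegRun (chainMachineP MultTwoMono.chain [MultTwoMono.pack0, MultTwoMono.pack1, MultTwoMono.pack2, MultTwoMono.pack3, MultTwoMono.pack4, MultTwoMono.pack5])
    (wsub (fun j => MultTwoPoints.inMono.getD j []) [(0, false), (0, false), (1, false), (0, false)]) 825510265 775482095
    24243513597785961085272865464302401687592502086330282124735663928734756758852242993831031344306950144585140940943921205767541266156507820270012926021883925874189390368526609375714417133750360983761032040139115742233972062516343500889390151536549378961448370145529581030386113072006574205209994996630431495695064187799590886047666734468075768376788904447968963255056133823984513593906234033715911140258946965506599493556264734192069485923367793337516850551663522012698649861804342017366324065237251570784450410476888068136514055648681125991742606691989448561375545565149123174277724629914489378292390092926806677179563152083236887706168461149690006086473943668414091679581527535484243360587828274777152453735553302470855522726435717916000813792040706783590109305115525788751695334606214509163590072531378476661255610770851502424246417063860630923444312187689550143310139938803072300248234027968345945349193424158120623005248081812899388364614692139387587783624935080272589598321943635972176777800570952295781403779425578036470004799453382823348433928109285350313669274455227779338711249524911001553093131198659517842039014315942096633644445468250012923855142895954874054020548862170304967361350200266885061501587873634919025353669872286864270964098967475191331144226145163993058160685711575378981232763433368150341666668545736791832662728514793371796537679461776299826740344585851104512674983238037617403902357599774538285632953624142940646736399020068271571893172834110396239872225064623851636622144084354578983328113170974565909354544520357675490251909532700166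 72057594037927936 :=
  segRun_of_segOK (by decide +kernel)

end CfsgLib.Sporadic.CoTwoMult
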