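import Cfsg.Agent.Lib.Schur.CheckParts
import Cfsg.Agent.Lib.Sporadic.MultTwoPoints.Data
import Cfsg.Agent.Lib.Sporadic.MultTwoMono.Data
import Cfsg.Agent.Lib.Sporadic.MultTwoMono.Pack0
import Cfsg.Agent.Lib.Sporadic.MultTwoMono.Pack1
import Cfsg.Agent.Lib.Sporadic.MultTwoMono.Pack2
import Cfsg.Agent.Lib.Sporadic.MultTwoMono.Pack3
import Cfsg.Agent.Lib.Sporadic.MultTwoMono.Pack4
import Cfsg.Agent.Lib.Sporadic.MultTwoMono.Pack5

/-!
# Segments of the relation in the cover
-/

set_option autoImplicit false
set_option maxRecDepth 100000
set_option maxHeartbeats 0
set_option Elab.async false

noncomputable section

namespace CfsgLib.Sporadic.CoTwoMult

open CfsgLib.Schur.Cert CfsgLib.Sporadic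

theorem mono_seg4 : SegRun (chainMachineP MultTwoMono.chain [MultTwoMono.pack0, MultTwoMono.pack1, MultTwoMono.pack2, MultTwoMono.pack3, MultTwoMono.pack4, MultTwoMono.pack5])
    (wsub (fun j => MultTwoPoints.inMono.getD j []) [(0, false), (1, false), (0, true), (1, false)]) 775482095 748670988
    (-63887698683693586844253836919495008274274050250069960505935841126880004867415358306574698270971341703758982118932667032514421215580100723427526449966000170726788611240405188814413123860186416205593991809881187429896663444526630976814810137089015518765121965752207360077981738122386211062900729117175458740394841746964889325041888342972375584176395649794634573660960622503236437701777697958688664271095369208447067249337866357395555803125076729991507406556304688102284481909009063401248004497524058286661016669476105157739985660543371516505758359526149415325300033373372656653640290954242058522480217425547696955402532791768178040263394227761803870504420723974714861276135413749687388743959202389906183341353486285313436940368758894281863948890112806827131860370918913491229854875922995661371141306901588929248932341298476367888500709853250768778378136433495357856831237121065535368308660138817728886718044018282205756873254472713861140402891372911312604157855351064262893226664254476632089902734572908950456918488726371413313345657576714497416336025309901761698247606686876570326270342033915361623239150112625848967092865194204002538793406342058928112385393448802338760845507802466440649476456791219337583456340993181131001454105768755217260573326424040905855828993815634372386269186865675678069925134194156355110789715844465182992570221159626171621457431420608069876554937533395427495182978785966370705902320189076593725872180688936479213777730827410815684561693600983068853532420580381493668224689568301484339050298031734434455812845317770944917638446240076097653428416767017579)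 72057594037927936 :=
  segRun_of_segOK (by decide +kernel)

end CfsgLib.Sporadic.CoTwoMult
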