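import Cfsg.Agent.Lib.Schur.CheckParts
import Cfsg.Agent.Lib.Sporadic.MultTwoPoints.Data
import Cfsg.Agent.Lib.Sporadic.MultTwoMono.Data
import Cfsg.Agent.Lib.Sporadic.MultTwoMono.Pack0
import Cfsg.Agent.Lib.Sporadic.MultTwoMono.Pack1
import Cfsg.Agent.Lib.Sporadic.MultTwoMono.Pack2
import Cfsg.Agent.Lib.Sporadic.MultTwoMono.Pack3
import Cfsg.Agent.Lib.Sporadic.MultTwoMono.Pack4
import Cfsg.Agent.Lib.Sporadic.MultTwoMono.Pack5

/-!
# Segments of the relation in the cover
-/

set_option autoImplicit false
set_option maxRecDepth 100000
set_option maxHeartbeats 0
set_option Elab.async false

noncomputable section

namespace CfsgLib.Sporadic.CoTwoMult

open CfsgLib.Schur.Cert CfsgLib.Sporadic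

theorem mono_seg5 : SegRun (chainMachineP MultTwoMono.chain [MultTwoMono.pack0, MultTwoMono.pack1, MultTwoMono.pack2, MultTwoMono.pack3, MultTwoMono.pack4, MultTwoMono.pack5])
    (wsub (fun j => MultTwoPoints.inMono.getD j []) [(0, false), (1, true), (0, true), (1, true)]) 748670988 285521625
    127775397367387173664264160241204055462711987819164632037763875890042020110266362611347695369144532381099683485251630394535029811346804615886086851703367248529088899787113800761082685824859679961734252619984990503986461447287745735812581446033533906227131025108665963015809707252905369226312689642508523482379631285574317182881729989788461139580449761107543834713470027863097153285025222533870798559505018530861770039137104521718977391467537118862122380129298542702951187998744439801963427360025272045797918105618389693268920984021384927623816860372856288274212479929621595698547769807486051340950088901019752498749075130935786094640797451261421430512172868060438441565486886936202066024039383065553876786713313633888347065168259754757115611333118879665759524421265795330905191121537347415593448380807502357871433938915778090133686751156742668920722382726739955781053484436392027505405908595221129313712709420269906309322221913909642734427472973462750911655111303853014963263531879248249952407617048833071972937788444491481669832346773170590140340067658051553793845151857199068224925458729061888795147622601356162905718492614496857451406280380309605055484734556531186049779660249050329009378352179019701623420349384735064194085742494723304285301672689053853251782090554753741706024617583858761621415976486527570575777502322916004215078518926525353840522939409007881461799984108090004680347716277596367148138353900064789560953895941371158514758008558030342786664014081740802062443171290886052638205365809620559033187634966539968557017928021534710853509083598245815184392942478042337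 72057594037927936 :=
  segRun_of_segOK (by decide +kernel)

end CfsgLib.Sporadic.CoTwoMult
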