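import Cfsg.Agent.Lib.Schur.CheckParts
import Cfsg.Agent.Lib.Sporadic.MultTwoPoints.Data
import Cfsg.Agent.Lib.Sporadic.MultTwoMono.Data
import Cfsg.Agent.Lib.Sporadic.MultTwoMono.Pack0
import Cfsg.Agent.Lib.Sporadic.MultTwoMono.Pack1
import Cfsg.Agent.Lib.Sporadic.MultTwoMono.Pack2
import Cfsg.Agent.Lib.Sporadic.MultTwoMono.Pack3
import Cfsg.Agent.Lib.Sporadic.MultTwoMono.Pack4
import Cfsg.Agent.Lib.Sporadic.MultTwoMono.Pack5

/-!
# Segments of the relation in the cover
-/

set_option autoImplicit false
set_option maxRecDepth 100000
set_option maxHeartbeats 0
set_option Elab.async false

noncomputable section

namespace CfsgLib.Sporadic.CoTwoMult

open CfsgLib.Schur.Cert CfsgLib.Sporadic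

theorem mono_seg6 : SegRun (chainMachineP MultTwoMono.chain [MultTwoMono.pack0, MultTwoMono.pack1, MultTwoMono.pack2, MultTwoMono.pack3, MultTwoMono.pack4, MultTwoMono.pack5])
    (wsub (fun j => MultTwoPoints.inMono.getD j []) [(0, false), (1, true), (0, false), (0, false)]) 285521625 60988622
    (-1277753973673871736621861447899652587993033763378708697731199388010331607427463179352964869085413832957766615980283190371584444343862770119888828817967301613218452763054465680105376669867349025776860086864833432047175632335537352181816833886739091134894082698648059699280385470068402820770578937081205587866433487792742057888836395812350463755922683052862874573823372191096700947646921085679425927831473861804327258420230674421044542727612352762595689239334206715564294833575835232694446685542502433712427291316117450192764758992908601742238012453535496586781530988852546680150277383519311918857918257540901925511832947968056643729667988871257035269192472715099594979305290661259762529263048246171832561478634353097149114614156609831533535125984096905137257308873542744432154139474589645859875340852598699472532011293076998727013485583542410722488129884953656140837943566403279600281187536710757658991793179394268796987206509204492385747544392441275169546419758513247053104845718305563024561618000854289956881616162493747789143064993930968366364720314844560324974698233843964021487468418948339539347764062086195258639827641890489907810354864194974743524371965607381565871071060024044443161421411871235401853556056795649538282071696495597564122126129087414678058544297098009238005976568652996274228170200744111477508925738879515693516325359007325364592504596787697832785701078505465932046140968234599584825476631021089686097943083561684752848690883987705997679547220094300145080306891117202428844312031094486583031572005819474732460425681034339783253083805440311069650520537379879695)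 72057594037927936 :=
  segRun_of_segOK (by decide +kernel)

end CfsgLib.Sporadic.CoTwoMult
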