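import Cfsg.Agent.Lib.Schur.CheckParts
import Cfsg.Agent.Lib.Sporadic.MultTwoPoints.Data
import Cfsg.Agent.Lib.Sporadic.MultTwoMono.Data
import Cfsg.Agent.Lib.Sporadic.MultTwoMono.Pack0
import Cfsg.Agent.Lib.Sporadic.MultTwoMono.Pack1
import Cfsg.Agent.Lib.Sporadic.MultTwoMono.Pack2
import Cfsg.Agent.Lib.Sporadic.MultTwoMono.Pack3
import Cfsg.Agent.Lib.Sporadic.MultTwoMono.Pack4
import Cfsg.Agent.Lib.Sporadic.MultTwoMono.Pack5

/-!
# Segments of the relation in the cover
-/

set_option autoImplicit false
set_option maxRecDepth 100000
set_option maxHeartbeats 0
set_option Elab.async false

noncomputable section

namespace CfsgLib.Sporadic.CoTwoMult

open CfsgLib.Schur.Cert CfsgLib.Sporadic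

theorem mono_seg7 : SegRun (chainMachineP MultTwoMono.chain [MultTwoMono.pack0, MultTwoMono.pack1, MultTwoMono.pack2, MultTwoMono.pack3, MultTwoMono.pack4, MultTwoMono.pack5])
    (wsub (fun j => MultTwoPoints.inMono.getD j []) [(0, false), (1, false), (1, false), (0, false)]) 60988622 4977463
    (-574989288153242281487457041542719252367124517905119017347529150581573702261627623511259273880136071944648000912521858000341119709630629162017653122136840516488560014687095792864712899469599083378990491721723188191151450750362078181021272577520231292059545262076075330091539423016812851815694622473464304268682107152830510133024177744504746941727406680844405485955835479205577206371440029907367652452385413959197264712683363026484014869094922691021680184906216217089437922776893143294321810340142802353146743585367610606249181627861806115028323072396040505485386969053902476420859295358485727203926038413398320844158891763683756115301072189206298095673646211311641869518574265259714819753137199941733303798450300001676935209957776337153038116357219062623326479312679778407165361473617588754959524508932537156088482144502948386361892114023390074229237519360612825303046704629481315412784515929791802708721246382849022007139941237445285328706760238396904556317950855933941648813115578542720693051327079301722320352352710263742556364290052661793081286009637434989551803756476295372989033996972123305785965184024224159348355740877900115178134828172357726571470395605247395219083284917984465004212787206220255577499084277694773590745874767631966487461960349419275781919979139008927772867808590649758331200202727033567351827502397550228119624984104703557971662610023417844068121534890506186700133421894634005708404744945888942966702249484469321830604144529013144072128276438975250365836126235556972172008569829731677625040430283221522408482192641580753448730288583247098278084181505798010)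 72057594037927936 :=
  segRun_of_segOK (by decide +kernel)

end CfsgLib.Sporadic.CoTwoMult
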