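import Cfsg.Agent.Lib.Schur.LocalExact
import Cfsg.Agent.Lib.Schur.CheckParts
import Cfsg.Agent.Lib.Sporadic.CoTwoMult.RelMono0
import Cfsg.Agent.Lib.Sporadic.CoTwoMult.RelMono1
import Cfsg.Agent.Lib.Sporadic.CoTwoMult.RelMono2
import Cfsg.Agent.Lib.Sporadic.CoTwoMult.RelMono3
import Cfsg.Agent.Lib.Sporadic.CoTwoMult.RelMono4
import Cfsg.Agent.Lib.Sporadic.CoTwoMult.RelMono5
import Cfsg.Agent.Lib.Sporadic.CoTwoMult.RelMono6
import Cfsg.Agent.Lib.Sporadic.CoTwoMult.RelMono7
import Cfsg.Agent.Lib.Sporadic.CoTwoMult.RelMono8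
import Cfsg.Agent.Lib.Sporadic.CoTwoMult.RelCent0
import Cfsg.Agent.Lib.Sporadic.CoTwoMult.RelCent1
import Cfsg.Agent.Lib.Sporadic.MultTwoMono.Pack0
import Cfsg.Agent.Lib.Sporadic.MultTwoMono.Pack1
import Cfsg.Agent.Lib.Sporadic.MultTwoMono.Pack2
import Cfsg.Agent.Lib.Sporadic.MultTwoMono.Pack3
import Cfsg.Agent.Lib.Sporadic.MultTwoMono.Pack4
import Cfsg.Agent.Lib.Sporadic.MultTwoMono.Pack5
import Cfsg.Agent.Lib.Sporadic.MultTwoCent.Pack0
import Cfsg.Agent.Lib.Sporadic.MultTwoCent.Pack1
import Cfsg.Agent.Lib.Sporadic.MultTwoCent.Pack2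
import Cfsg.Agent.Lib.Sporadic.MultTwoCent.Pack3
import Cfsg.Agent.Lib.Sporadic.MultTwoCent.Pack4
import Cfsg.Agent.Lib.Sporadic.MultTwoPoints.Data
import Cfsg.Agent.Lib.Sporadic.MultTwoMono.Data
import Cfsg.Agent.Lib.Sporadic.MultTwoCent.Data

/-!
# The relation between two common elements
-/

set_option autoImplicit false
set_option maxRecDepth 100000
set_option maxHeartbeats 0
set_option Elab.async false

namespace CfsgLib.Sporadic.CoTwoMult

open CfsgLib.Schur.Cert CfsgLib.Sporadic

/-- a closed word of exponent zero with the given parity of its coordinate -/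
def relOK (ls : List ChainLevel) (C : LinCert) (w : Word) (par : ℤ) : Bool :=
  (w.all fun l => decide (l.1 < 2)) && veq (wexp vunit w) [] &&
    (let q := mrun (chainMachine ls) w 0
     q.1 == 0 && decide (dot (C.dual.getD C.tor []) q.2 % 2 = par))

theorem relOK_of_run {ls : List ChainLevel} {ps : List Pack} {C : LinCert} {w : Word} {par : ℤ} {p : ℤ} {Q : ℕ}
    (hps : packsOK ls ps = true) (hw : ((w.all fun l => decide (l.1 < 2)) && veq (wexp vunit w) []) = true)
    (h : SegRun (chainMachineP ls ps) w 0 0 p Q) (n : ℕ) (hn : pk (unpk n p) = p)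
    (hQ : Q + nrm (unpk n p) < pkBase) (hd : dot (C.dual.getD C.tor []) (unpk n p) % 2 = par) :
    relOK ls C w par = true := by
  obtain ⟨h1, h2⟩ := coord_of_run hps h n hn hQ (C.dual.getD C.tor [])
  simp only [Bool.and_eq_true] at hw
  simp only [relOK, Bool.and_eq_true, beq_iff_eq, decide_eq_true_eq]
  exact ⟨hw, h1, by rw [h2]; exact hd⟩

theorem rel_mono : relOK MultTwoMono.chain MultTwoMono.lin
    (wsub (fun j => MultTwoPoints.inMono.getD j []) MultTwoPoints.rel) 1 = true := by
  have h := mono_seg0.trans (mono_seg1.trans (mono_seg2.trans (mono_seg3.trans (mono_seg4.trans (mono_seg5.trans (mono_seg6.trans (mono_seg7.trans (mono_seg8))))))))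
  have hw : MultTwoPoints.rel = [(0, true), (0, true), (0, true), (0, true)] ++ ([(0, true), (0, true), (0, true), (0, true)] ++ ([(0, true), (0, true), (1, true), (1, true)] ++ ([(0, false), (0, false), (1, false), (0, false)] ++ ([(0, false), (1, false), (0, true), (1, false)] ++ ([(0, false), (1, true), (0, true), (1, true)] ++ ([(0, false), (1, true), (0, false), (0, false)] ++ ([(0, false), (1, false), (1, false), (0, false)] ++ ([(0, false), (0, false)])))))))) := by decide +kernel
  rw [← hw] at h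
  refine relOK_of_run (packsOK_cons MultTwoMono.pack_ok0 (packsOK_cons MultTwoMono.pack_ok1 (packsOK_cons MultTwoMono.pack_ok2 (packsOK_cons MultTwoMono.pack_ok3 (packsOK_cons MultTwoMono.pack_ok4 (packsOK_cons MultTwoMono.pack_ok5 (rfl))))))) (by decide +kernel) h MultTwoMono.rows.length ?_ ?_ ?_ <;>
    decide +kernel

theorem rel_cent : relOK MultTwoCent.chain MultTwoCent.lin
    (wsub (fun j => MultTwoPoints.inCent.getD j []) MultTwoPoints.rel) 0 = true := by
  have h := cent_seg0.trans (cent_seg1.trans (cent_seg2.trans (cent_seg3.trans (cent_seg4.trans (cent_seg5.trans (cent_seg6.trans (cent_seg7.trans (cent_seg8))))))))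
  have hw : MultTwoPoints.rel = [(0, true), (0, true), (0, true), (0, true)] ++ ([(0, true), (0, true), (0, true), (0, true)] ++ ([(0, true), (0, true), (1, true), (1, true)] ++ ([(0, false), (0, false), (1, false), (0, false)] ++ ([(0, false), (1, false), (0, true), (1, false)] ++ ([(0, false), (1, true), (0, true), (1, true)] ++ ([(0, false), (1, true), (0, false), (0, false)] ++ ([(0, false), (1, false), (1, false), (0, false)] ++ ([(0, false), (0, false)])))))))) := by decide +kernel
  rw [← hw] at h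
  refine relOK_of_run (packsOK_cons MultTwoCent.pack_ok0 (packsOK_cons MultTwoCent.pack_ok1 (packsOK_cons MultTwoCent.pack_ok2 (packsOK_cons MultTwoCent.pack_ok3 (packsOK_cons MultTwoCent.pack_ok4 (rfl)))))) (by decide +kernel) h MultTwoCent.rows.length ?_ ?_ ?_ <;>
    decide +kernel

theorem rel_zero : (MultTwoPoints.rel.all fun l => decide (l.1 < 2)) = true ∧
    veq (wexp vunit MultTwoPoints.rel) [] = true := by
  decide +kernel

end CfsgLib.Sporadic.CoTwoMult
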