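import Cfsg.Agent.Lib.Schur.CheckParts
import Cfsg.Agent.Lib.Sporadic.MultTwoPoints.Data
import Cfsg.Agent.Lib.Sporadic.MultTwoMono.Data
import Cfsg.Agent.Lib.Sporadic.MultTwoMono.Pack0
import Cfsg.Agent.Lib.Sporadic.MultTwoMono.Pack1
import Cfsg.Agent.Lib.Sporadic.MultTwoMono.Pack2
import Cfsg.Agent.Lib.Sporadic.MultTwoMono.Pack3
import Cfsg.Agent.Lib.Sporadic.MultTwoMono.Pack4
import Cfsg.Agent.Lib.Sporadic.MultTwoMono.Pack5

/-!
# Segments of the relation in the cover
-/

set_option autoImplicit false
set_option maxRecDepth 100000
set_option maxHeartbeats 0
set_option Elab.async false

noncomputable section

namespace CfsgLib.Sporadic.CoTwoMult

open CfsgLib.Schur.Cert CfsgLib.Sporadic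

theorem mono_seg8 : SegRun (chainMachineP MultTwoMono.chain [MultTwoMono.pack0, MultTwoMono.pack1, MultTwoMono.pack2, MultTwoMono.pack3, MultTwoMono.pack4, MultTwoMono.pack5])
    (wsub (fun j => MultTwoPoints.inMono.getD j []) [(0, false), (0, false)]) 4977463 0
    (-702764685520629455175964715381709268915860367477483234122702347561328123521775899561277237210906734186903295758452171251442991843935785833765620616892024842093085240182751408195496391329660751713751522529823941841156844986470899331570492759380361994997834949250013906773053094620982901457455430935762782876771646057754047219556564818650447520785197624181208278821005910080101430106581703551343994890309355086968154659306837556908068018516166291263682313218157834729980230280184841325993335677570949997711608092372204721011609030066255208529012288015663741512944508919602785858079290311121315532236504067294304217112613689358401482325675170448055407676888561102408026525678062086912691185033390623667363998452867214463968201938034873982074036283212378717854048667308016450548745180815826930648235790752825056480144409788952664709387475789350388899878334390615793916297905915479357250497978904644850527159788609033542940442219851776604525216795445625914600470928642147963833701429696789000331424834770023621154862899738207978369470804402495943051715142207711047867918674762167179999804867430136898397755241443474664310768913203394766539974292096236094032372301454262569537558914052389171483804745082010285984597418950563917999382077223351712640339037311701595799095377979989963401874747934878620107542066152137840330319654541498526507131256210101391772660785204552492933243244531858667883388516173124722695877999718783249714521753908933547273441402049000217659581047615411563522347832026252099443168139681586238866915095748843020641965718119390093886869124872003864975087410545523241)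 72057594037927936 :=
  segRun_of_segOK (by decide +kernel)

end CfsgLib.Sporadic.CoTwoMult
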