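import Cfsg.Agent.Lib.Sporadic.ConwaySubPoints
import Cfsg.Agent.Lib.Sporadic.MultTwoPoints.Data
import Cfsg.Agent.Lib.Sporadic.MultTwoMcl.Data

/-!
# The point sets of the four subgroups
-/

set_option autoImplicit false
set_option maxRecDepth 100000
set_option maxHeartbeats 0
set_option Elab.async false

namespace CfsgLib.Sporadic.CoTwoMult

open CfsgLib.Sporadic.Conway
open CfsgLib.Schur.Cert (allFrom allFrom_trans pgetN pgetW)

theorem mcl_sub : MultTwoPoints.mclSub.length = 550 ∧ MultTwoPoints.mclSub.all (fun x => Nat.blt x 4600) = true ∧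
    increasingFrom MultTwoPoints.mclSub 0 = true := by
  decide +kernel

theorem mcl_restr0_0 : allFrom (fun i => Nat.blt (pgetN ((chainPerm MultTwoMcl.chain).getD 0 0) i) 550 && Nat.beq (pgetW (MultTwoPoints.mclTops.getD 0 0) (MultTwoPoints.mclSub.getD i 0)) (MultTwoPoints.mclSub.getD (pgetN ((chainPerm MultTwoMcl.chain).getD 0 0) i) 0)) 0 140 = true := by decide +kernel

theorem mcl_restr0_140 : allFrom (fun i => Nat.blt (pgetN ((chainPerm MultTwoMcl.chain).getD 0 0) i) 550 && Nat.beq (pgetW (MultTwoPoints.mclTops.getD 0 0) (MultTwoPoints.mclSub.getD i 0)) (MultTwoPoints.mclSub.getD (pgetN ((chainPerm MultTwoMcl.chain).getD 0 0) i) 0)) 140 280 = true := by decide +kernel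

theorem mcl_restr0_280 : allFrom (fun i => Nat.blt (pgetN ((chainPerm MultTwoMcl.chain).getD 0 0) i) 550 && Nat.beq (pgetW (MultTwoPoints.mclTops.getD 0 0) (MultTwoPoints.mclSub.getD i 0)) (MultTwoPoints.mclSub.getD (pgetN ((chainPerm MultTwoMcl.chain).getD 0 0) i) 0)) 280 420 = true := by decide +kernel

theorem mcl_restr0_420 : allFrom (fun i => Nat.blt (pgetN ((chainPerm MultTwoMcl.chain).getD 0 0) i) 550 && Nat.beq (pgetW (MultTwoPoints.mclTops.getD 0 0) (MultTwoPoints.mclSub.getD i 0)) (MultTwoPoints.mclSub.getD (pgetN ((chainPerm MultTwoMcl.chain).getD 0 0) i) 0)) 420 550 = true := by decide +kernel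

theorem mcl_restr0 : Numbered.restrOK MultTwoPoints.mclSub 550 (MultTwoPoints.mclTops.getD 0 0)
    ((chainPerm MultTwoMcl.chain).getD 0 0) = true :=
  Numbered.restrOK_of_parts (allFrom_trans mcl_restr0_0 (allFrom_trans mcl_restr0_140 (allFrom_trans mcl_restr0_280 (mcl_restr0_420))))

theorem mcl_restr1_0 : allFrom (fun i => Nat.blt (pgetN ((chainPerm MultTwoMcl.chain).getD 1 0) i) 550 && Nat.beq (pgetW (MultTwoPoints.mclTops.getD 1 0) (MultTwoPoints.mclSub.getD i 0)) (MultTwoPoints.mclSub.getD (pgetN ((chainPerm MultTwoMcl.chain).getD 1 0) i) 0)) 0 140 = true := by decide +kernel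

theorem mcl_restr1_140 : allFrom (fun i => Nat.blt (pgetN ((chainPerm MultTwoMcl.chain).getD 1 0) i) 550 && Nat.beq (pgetW (MultTwoPoints.mclTops.getD 1 0) (MultTwoPoints.mclSub.getD i 0)) (MultTwoPoints.mclSub.getD (pgetN ((chainPerm MultTwoMcl.chain).getD 1 0) i) 0)) 140 280 = true := by decide +kernel

theorem mcl_restr1_280 : allFrom (fun i => Nat.blt (pgetN ((chainPerm MultTwoMcl.chain).getD 1 0) i) 550 && Nat.beq (pgetW (MultTwoPoints.mclTops.getD 1 0) (MultTwoPoints.mclSub.getD i 0)) (MultTwoPoints.mclSub.getD (pgetN ((chainPerm MultTwoMcl.chain).getD 1 0) i) 0)) 280 420 = true := by decide +kernel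

theorem mcl_restr1_420 : allFrom (fun i => Nat.blt (pgetN ((chainPerm MultTwoMcl.chain).getD 1 0) i) 550 && Nat.beq (pgetW (MultTwoPoints.mclTops.getD 1 0) (MultTwoPoints.mclSub.getD i 0)) (MultTwoPoints.mclSub.getD (pgetN ((chainPerm MultTwoMcl.chain).getD 1 0) i) 0)) 420 550 = true := by decide +kernel

theorem mcl_restr1 : Numbered.restrOK MultTwoPoints.mclSub 550 (MultTwoPoints.mclTops.getD 1 0)
    ((chainPerm MultTwoMcl.chain).getD 1 0) = true :=
  Numbered.restrOK_of_parts (allFrom_trans mcl_restr1_0 (allFrom_trans mcl_restr1_140 (allFrom_trans mcl_restr1_280 (mcl_restr1_420))))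

theorem mcl_span : Numbered.spanOK MultTwoPoints.keys MultTwoPoints.mclSub MultTwoPoints.mclSel 550 MultTwoPoints.mclCoef MultTwoPoints.mclDen := by
  decide +kernel

end CfsgLib.Sporadic.CoTwoMult
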