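import Cfsg.Agent.Lib.Sporadic.CoTwoMult.SetMono
import Cfsg.Agent.Lib.Sporadic.CoTwoMult.SetCent
import Cfsg.Agent.Lib.Sporadic.CoTwoMult.SetMcl
import Cfsg.Agent.Lib.Sporadic.CoTwoMult.SetUnit

/-!
# All point-set checks
-/
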