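import Cfsg.Agent.Lib.Sporadic.ConwaySubPoints
import Cfsg.Agent.Lib.Sporadic.MultTwoPoints.Data
import Cfsg.Agent.Lib.Sporadic.MultTwoMono.Data

/-!
# The point sets of the four subgroups
-/

set_option autoImplicit false
set_option maxRecDepth 100000
set_option maxHeartbeats 0
set_option Elab.async false

namespace CfsgLib.Sporadic.CoTwoMult

open CfsgLib.Sporadic.Conway
open CfsgLib.Schur.Cert (allFrom allFrom_trans pgetN pgetW)

theorem mono_sub : MultTwoPoints.monoSub.length = 88 ∧ MultTwoPoints.monoSub.all (fun x => Nat.blt x 4600) = true ∧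
    increasingFrom MultTwoPoints.monoSub 0 = true := by
  decide +kernel

theorem mono_restr0 : Numbered.restrOK MultTwoPoints.monoSub 88 (MultTwoPoints.monoTops.getD 0 0)
    ((chainPerm MultTwoMono.chain).getD 0 0) = true := by
  decide +kernel

theorem mono_restr1 : Numbered.restrOK MultTwoPoints.monoSub 88 (MultTwoPoints.monoTops.getD 1 0)
    ((chainPerm MultTwoMono.chain).getD 1 0) = true := by
  decide +kernel

theorem mono_span : Numbered.spanOK MultTwoPoints.keys MultTwoPoints.monoSub MultTwoPoints.monoSel 88 MultTwoPoints.monoCoef MultTwoPoints.monoDen := by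
  decide +kernel

end CfsgLib.Sporadic.CoTwoMult
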