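import Cfsg.Agent.Lib.Sporadic.ConwayKeysPartsWide
import Cfsg.Agent.Lib.Sporadic.MultTwoPoints.Data

/-!
# Inverses and derived generators
-/

set_option autoImplicit false
set_option maxRecDepth 100000
set_option maxHeartbeats 0
set_option Elab.async false

namespace CfsgLib.Sporadic.CoTwoMult

open CfsgLib.Sporadic.Conway
open CfsgLib.Schur.Cert (pgetW allFrom allFrom_trans)

theorem mono_inv : invsOKW 4600 MultTwoPoints.monoTops MultTwoPoints.monoTopInvs 2 = true := by
  decide +kernel

theorem mono_common0_0 : allFrom (wordPermPt MultTwoPoints.monoTops MultTwoPoints.monoTopInvs (MultTwoPoints.inMono.getD 0 []) (MultTwoPoints.commons.getD 0 0)) 0 920 = true := by decide +kernel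

theorem mono_common0_920 : allFrom (wordPermPt MultTwoPoints.monoTops MultTwoPoints.monoTopInvs (MultTwoPoints.inMono.getD 0 []) (MultTwoPoints.commons.getD 0 0)) 920 1840 = true := by decide +kernel

theorem mono_common0_1840 : allFrom (wordPermPt MultTwoPoints.monoTops MultTwoPoints.monoTopInvs (MultTwoPoints.inMono.getD 0 []) (MultTwoPoints.commons.getD 0 0)) 1840 2760 = true := by decide +kernel

theorem mono_common0_2760 : allFrom (wordPermPt MultTwoPoints.monoTops MultTwoPoints.monoTopInvs (MultTwoPoints.inMono.getD 0 []) (MultTwoPoints.commons.getD 0 0)) 2760 3680 = true := by decide +kernel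

theorem mono_common0_3680 : allFrom (wordPermPt MultTwoPoints.monoTops MultTwoPoints.monoTopInvs (MultTwoPoints.inMono.getD 0 []) (MultTwoPoints.commons.getD 0 0)) 3680 4600 = true := by decide +kernel

theorem mono_common0 : wordPermW 4600 MultTwoPoints.monoTops MultTwoPoints.monoTopInvs 2 (MultTwoPoints.inMono.getD 0 [])
    (MultTwoPoints.commons.getD 0 0) = true :=
  wordPermW_of_parts (by decide +kernel) (allFrom_trans mono_common0_0 (allFrom_trans mono_common0_920 (allFrom_trans mono_common0_1840 (allFrom_trans mono_common0_2760 (mono_common0_3680)))))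

theorem mono_common1_0 : allFrom (wordPermPt MultTwoPoints.monoTops MultTwoPoints.monoTopInvs (MultTwoPoints.inMono.getD 1 []) (MultTwoPoints.commons.getD 1 0)) 0 920 = true := by decide +kernel

theorem mono_common1_920 : allFrom (wordPermPt MultTwoPoints.monoTops MultTwoPoints.monoTopInvs (MultTwoPoints.inMono.getD 1 []) (MultTwoPoints.commons.getD 1 0)) 920 1840 = true := by decide +kernel

theorem mono_common1_1840 : allFrom (wordPermPt MultTwoPoints.monoTops MultTwoPoints.monoTopInvs (MultTwoPoints.inMono.getD 1 []) (MultTwoPoints.commons.getD 1 0)) 1840 2760 = true := by decide +kernel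

theorem mono_common1_2760 : allFrom (wordPermPt MultTwoPoints.monoTops MultTwoPoints.monoTopInvs (MultTwoPoints.inMono.getD 1 []) (MultTwoPoints.commons.getD 1 0)) 2760 3680 = true := by decide +kernel

theorem mono_common1_3680 : allFrom (wordPermPt MultTwoPoints.monoTops MultTwoPoints.monoTopInvs (MultTwoPoints.inMono.getD 1 []) (MultTwoPoints.commons.getD 1 0)) 3680 4600 = true := by decide +kernel

theorem mono_common1 : wordPermW 4600 MultTwoPoints.monoTops MultTwoPoints.monoTopInvs 2 (MultTwoPoints.inMono.getD 1 [])
    (MultTwoPoints.commons.getD 1 0) = true :=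
  wordPermW_of_parts (by decide +kernel) (allFrom_trans mono_common1_0 (allFrom_trans mono_common1_920 (allFrom_trans mono_common1_1840 (allFrom_trans mono_common1_2760 (mono_common1_3680)))))

theorem cent_inv : invsOKW 4600 MultTwoPoints.centTops MultTwoPoints.centTopInvs 2 = true := by
  decide +kernel

theorem cent_common0_0 : allFrom (wordPermPt MultTwoPoints.centTops MultTwoPoints.centTopInvs (MultTwoPoints.inCent.getD 0 []) (MultTwoPoints.commons.getD 0 0)) 0 920 = true := by decide +kernel

theorem cent_common0_920 : allFrom (wordPermPt MultTwoPoints.centTops MultTwoPoints.centTopInvs (MultTwoPoints.inCent.getD 0 []) (MultTwoPoints.commons.getD 0 0)) 920 1840 = true := by decide +kernel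

theorem cent_common0_1840 : allFrom (wordPermPt MultTwoPoints.centTops MultTwoPoints.centTopInvs (MultTwoPoints.inCent.getD 0 []) (MultTwoPoints.commons.getD 0 0)) 1840 2760 = true := by decide +kernel

theorem cent_common0_2760 : allFrom (wordPermPt MultTwoPoints.centTops MultTwoPoints.centTopInvs (MultTwoPoints.inCent.getD 0 []) (MultTwoPoints.commons.getD 0 0)) 2760 3680 = true := by decide +kernel

theorem cent_common0_3680 : allFrom (wordPermPt MultTwoPoints.centTops MultTwoPoints.centTopInvs (MultTwoPoints.inCent.getD 0 []) (MultTwoPoints.commons.getD 0 0)) 3680 4600 = true := by decide +kernel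

theorem cent_common0 : wordPermW 4600 MultTwoPoints.centTops MultTwoPoints.centTopInvs 2 (MultTwoPoints.inCent.getD 0 [])
    (MultTwoPoints.commons.getD 0 0) = true :=
  wordPermW_of_parts (by decide +kernel) (allFrom_trans cent_common0_0 (allFrom_trans cent_common0_920 (allFrom_trans cent_common0_1840 (allFrom_trans cent_common0_2760 (cent_common0_3680)))))

theorem cent_common1_0 : allFrom (wordPermPt MultTwoPoints.centTops MultTwoPoints.centTopInvs (MultTwoPoints.inCent.getD 1 []) (MultTwoPoints.commons.getD 1 0)) 0 920 = true := by decide +kernel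

theorem cent_common1_920 : allFrom (wordPermPt MultTwoPoints.centTops MultTwoPoints.centTopInvs (MultTwoPoints.inCent.getD 1 []) (MultTwoPoints.commons.getD 1 0)) 920 1840 = true := by decide +kernel

theorem cent_common1_1840 : allFrom (wordPermPt MultTwoPoints.centTops MultTwoPoints.centTopInvs (MultTwoPoints.inCent.getD 1 []) (MultTwoPoints.commons.getD 1 0)) 1840 2760 = true := by decide +kernel

theorem cent_common1_2760 : allFrom (wordPermPt MultTwoPoints.centTops MultTwoPoints.centTopInvs (MultTwoPoints.inCent.getD 1 []) (MultTwoPoints.commons.getD 1 0)) 2760 3680 = true := by decide +kernel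

theorem cent_common1_3680 : allFrom (wordPermPt MultTwoPoints.centTops MultTwoPoints.centTopInvs (MultTwoPoints.inCent.getD 1 []) (MultTwoPoints.commons.getD 1 0)) 3680 4600 = true := by decide +kernel

theorem cent_common1 : wordPermW 4600 MultTwoPoints.centTops MultTwoPoints.centTopInvs 2 (MultTwoPoints.inCent.getD 1 [])
    (MultTwoPoints.commons.getD 1 0) = true :=
  wordPermW_of_parts (by decide +kernel) (allFrom_trans cent_common1_0 (allFrom_trans cent_common1_920 (allFrom_trans cent_common1_1840 (allFrom_trans cent_common1_2760 (cent_common1_3680)))))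


end CfsgLib.Sporadic.CoTwoMult
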