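import Cfsg.Agent.Lib.Sporadic.ConwayKeysPartsWide
import Cfsg.Agent.Lib.Sporadic.MultTwoPoints.Data

/-!
# Inverses and derived generators
-/

set_option autoImplicit false
set_option maxRecDepth 100000
set_option maxHeartbeats 0
set_option Elab.async false

namespace CfsgLib.Sporadic.CoTwoMult

open CfsgLib.Sporadic.Conway
open CfsgLib.Schur.Cert (pgetW allFrom allFrom_trans)

theorem inv_check : invsOKW 4600 MultTwoPoints.perms MultTwoPoints.pinvs 10 = true := by
  decide +kernel

theorem moved_check : Nat.beq (pgetW (MultTwoPoints.perms.getD 0 0) 0) 0 = false := by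
  decide +kernel

theorem derived_check0_0 : allFrom (wordPermPt MultTwoPoints.perms MultTwoPoints.pinvs (MultTwoPoints.defWords.getD 0 []) (MultTwoPoints.perms.getD 6 0)) 0 920 = true := by decide +kernel

theorem derived_check0_920 : allFrom (wordPermPt MultTwoPoints.perms MultTwoPoints.pinvs (MultTwoPoints.defWords.getD 0 []) (MultTwoPoints.perms.getD 6 0)) 920 1840 = true := by decide +kernel

theorem derived_check0_1840 : allFrom (wordPermPt MultTwoPoints.perms MultTwoPoints.pinvs (MultTwoPoints.defWords.getD 0 []) (MultTwoPoints.perms.getD 6 0)) 1840 2760 = true := by decide +kernel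

theorem derived_check0_2760 : allFrom (wordPermPt MultTwoPoints.perms MultTwoPoints.pinvs (MultTwoPoints.defWords.getD 0 []) (MultTwoPoints.perms.getD 6 0)) 2760 3680 = true := by decide +kernel

theorem derived_check0_3680 : allFrom (wordPermPt MultTwoPoints.perms MultTwoPoints.pinvs (MultTwoPoints.defWords.getD 0 []) (MultTwoPoints.perms.getD 6 0)) 3680 4600 = true := by decide +kernel

theorem derived_check0 : wordPermW 4600 MultTwoPoints.perms MultTwoPoints.pinvs 6 (MultTwoPoints.defWords.getD 0 [])
    (MultTwoPoints.perms.getD 6 0) = true :=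
  wordPermW_of_parts (by decide +kernel) (allFrom_trans derived_check0_0 (allFrom_trans derived_check0_920 (allFrom_trans derived_check0_1840 (allFrom_trans derived_check0_2760 (derived_check0_3680)))))

theorem derived_check1_0 : allFrom (wordPermPt MultTwoPoints.perms MultTwoPoints.pinvs (MultTwoPoints.defWords.getD 1 []) (MultTwoPoints.perms.getD 7 0)) 0 920 = true := by decide +kernel

theorem derived_check1_920 : allFrom (wordPermPt MultTwoPoints.perms MultTwoPoints.pinvs (MultTwoPoints.defWords.getD 1 []) (MultTwoPoints.perms.getD 7 0)) 920 1840 = true := by decide +kernel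

theorem derived_check1_1840 : allFrom (wordPermPt MultTwoPoints.perms MultTwoPoints.pinvs (MultTwoPoints.defWords.getD 1 []) (MultTwoPoints.perms.getD 7 0)) 1840 2760 = true := by decide +kernel

theorem derived_check1_2760 : allFrom (wordPermPt MultTwoPoints.perms MultTwoPoints.pinvs (MultTwoPoints.defWords.getD 1 []) (MultTwoPoints.perms.getD 7 0)) 2760 3680 = true := by decide +kernel

theorem derived_check1_3680 : allFrom (wordPermPt MultTwoPoints.perms MultTwoPoints.pinvs (MultTwoPoints.defWords.getD 1 []) (MultTwoPoints.perms.getD 7 0)) 3680 4600 = true := by decide +kernel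

theorem derived_check1 : wordPermW 4600 MultTwoPoints.perms MultTwoPoints.pinvs 6 (MultTwoPoints.defWords.getD 1 [])
    (MultTwoPoints.perms.getD 7 0) = true :=
  wordPermW_of_parts (by decide +kernel) (allFrom_trans derived_check1_0 (allFrom_trans derived_check1_920 (allFrom_trans derived_check1_1840 (allFrom_trans derived_check1_2760 (derived_check1_3680)))))

theorem derived_check2_0 : allFrom (wordPermPt MultTwoPoints.perms MultTwoPoints.pinvs (MultTwoPoints.defWords.getD 2 []) (MultTwoPoints.perms.getD 8 0)) 0 920 = true := by decide +kernel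

theorem derived_check2_920 : allFrom (wordPermPt MultTwoPoints.perms MultTwoPoints.pinvs (MultTwoPoints.defWords.getD 2 []) (MultTwoPoints.perms.getD 8 0)) 920 1840 = true := by decide +kernel

theorem derived_check2_1840 : allFrom (wordPermPt MultTwoPoints.perms MultTwoPoints.pinvs (MultTwoPoints.defWords.getD 2 []) (MultTwoPoints.perms.getD 8 0)) 1840 2760 = true := by decide +kernel

theorem derived_check2_2760 : allFrom (wordPermPt MultTwoPoints.perms MultTwoPoints.pinvs (MultTwoPoints.defWords.getD 2 []) (MultTwoPoints.perms.getD 8 0)) 2760 3680 = true := by decide +kernel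

theorem derived_check2_3680 : allFrom (wordPermPt MultTwoPoints.perms MultTwoPoints.pinvs (MultTwoPoints.defWords.getD 2 []) (MultTwoPoints.perms.getD 8 0)) 3680 4600 = true := by decide +kernel

theorem derived_check2 : wordPermW 4600 MultTwoPoints.perms MultTwoPoints.pinvs 8 (MultTwoPoints.defWords.getD 2 [])
    (MultTwoPoints.perms.getD 8 0) = true :=
  wordPermW_of_parts (by decide +kernel) (allFrom_trans derived_check2_0 (allFrom_trans derived_check2_920 (allFrom_trans derived_check2_1840 (allFrom_trans derived_check2_2760 (derived_check2_3680)))))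

theorem derived_check3_0 : allFrom (wordPermPt MultTwoPoints.perms MultTwoPoints.pinvs (MultTwoPoints.defWords.getD 3 []) (MultTwoPoints.perms.getD 9 0)) 0 920 = true := by decide +kernel

theorem derived_check3_920 : allFrom (wordPermPt MultTwoPoints.perms MultTwoPoints.pinvs (MultTwoPoints.defWords.getD 3 []) (MultTwoPoints.perms.getD 9 0)) 920 1840 = true := by decide +kernel

theorem derived_check3_1840 : allFrom (wordPermPt MultTwoPoints.perms MultTwoPoints.pinvs (MultTwoPoints.defWords.getD 3 []) (MultTwoPoints.perms.getD 9 0)) 1840 2760 = true := by decide +kernel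

theorem derived_check3_2760 : allFrom (wordPermPt MultTwoPoints.perms MultTwoPoints.pinvs (MultTwoPoints.defWords.getD 3 []) (MultTwoPoints.perms.getD 9 0)) 2760 3680 = true := by decide +kernel

theorem derived_check3_3680 : allFrom (wordPermPt MultTwoPoints.perms MultTwoPoints.pinvs (MultTwoPoints.defWords.getD 3 []) (MultTwoPoints.perms.getD 9 0)) 3680 4600 = true := by decide +kernel

theorem derived_check3 : wordPermW 4600 MultTwoPoints.perms MultTwoPoints.pinvs 8 (MultTwoPoints.defWords.getD 3 [])
    (MultTwoPoints.perms.getD 9 0) = true :=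
  wordPermW_of_parts (by decide +kernel) (allFrom_trans derived_check3_0 (allFrom_trans derived_check3_920 (allFrom_trans derived_check3_1840 (allFrom_trans derived_check3_2760 (derived_check3_3680)))))

end CfsgLib.Sporadic.CoTwoMult
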